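import Mathlib
import Groth.Agent.Lib.VarDim.Alg
import Groth.Agent.Lib.CurveCartier25.RelDim

/-! # Fibre dimensions of flat algebras of finite type over a discrete valuation ring -/

set_option autoImplicit false
universe u

open TensorProduct AlgebraicGeometry

namespace Groth.Agent.EtaEtale

/-- A locally standard smooth algebra of relative dimension `d` over a field has dimension at most `d`. -/
theorem ringKrullDim_le_of_locally {K A : Type u} [Field K] [CommRing A] [Algebra K A] (d : ℕ)
    (h : RingHom.Locally (RingHom.IsStandardSmoothOfRelativeDimension d) (algebraMap K A)) :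
    ringKrullDim A ≤ d := by
  obtain ⟨s, hs, hstd⟩ := h
  rw [ringKrullDim, Order.krullDim_eq_iSup_height]
  refine iSup_le fun p => ?_
  obtain ⟨M, hM, hle⟩ := Ideal.exists_le_maximal p.asIdeal p.2.ne_top
  obtain ⟨g, hg, hgM⟩ : ∃ g : A, g ∈ s ∧ g ∉ M := by
    by_contra! hall
    exact hM.ne_top (eq_top_iff.2 (hs.ge.trans (Ideal.span_le.2 hall)))
  have : Algebra.IsStandardSmoothOfRelativeDimension d K (Localization.Away g) := by
    have := hstd g hg
    rw [← IsScalarTower.algebraMap_eq] at this
    exact (RingHom.isStandardSmoothOfRelativeDimension_algebraMap d).mp this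
  have hdisj : Disjoint (Submonoid.powers g : Set A) M :=
    (Ideal.disjoint_powers_iff_notMem_of_isPrime (I := M) g).2 hgM
  have hMp : (M.map (algebraMap A (Localization.Away g))).IsPrime :=
    IsLocalization.isPrime_of_isPrime_disjoint (Submonoid.powers g) _ M hM.isPrime hdisj
  obtain ⟨M', hM', hMM'⟩ := Ideal.exists_le_maximal _ hMp.ne_top
  have h1 := CurveCartier25.ringKrullDim_atPrime_of_standardSmooth K (Localization.Away g) d M'
  rw [IsLocalization.AtPrime.ringKrullDim_eq_height M'] at h1
  have h3 : M.height ≤ M'.height := by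
    refine le_trans ?_ (Ideal.height_mono hMM')
    rw [← IsLocalization.height_under (Submonoid.powers g) (M.map (algebraMap A (Localization.Away g))),
      IsLocalization.under_map_of_isPrime_disjoint (Submonoid.powers g) _ hM.isPrime hdisj]
  have h2 : Order.height p ≤ Order.height (⟨M, hM.isPrime⟩ : PrimeSpectrum A) := Order.height_mono hle
  rw [← PrimeSpectrum.height_eq_orderHeight ⟨M, hM.isPrime⟩] at h2
  calc ((Order.height p : ℕ∞) : WithBot ℕ∞) ≤ ((M'.height : ℕ∞) : WithBot ℕ∞) := by exact_mod_cast h2.trans h3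
    _ = _ := h1

/-- An algebra over a field smooth of relative dimension `d` has dimension at most `d`. -/
theorem ringKrullDim_le_of_smooth {K A : Type u} [Field K] [CommRing A] [Algebra K A] (d : ℕ)
    (h : SmoothOfRelativeDimension d (Spec.map (CommRingCat.ofHom (algebraMap K A)))) :
    ringKrullDim A ≤ d :=
  ringKrullDim_le_of_locally d ((HasRingHomProperty.Spec_iff (P := @SmoothOfRelativeDimension d)).mp h)

/-- An injection of a polynomial ring into an algebra of finite type bounds the dimension below. -/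
theorem le_ringKrullDim_of_injective {K A : Type u} [Field K] [CommRing A] [Algebra K A]
    [Algebra.FiniteType K A] {m : ℕ} (φ : MvPolynomial (Fin m) K →ₐ[K] A)
    (hφ : Function.Injective φ) : (m : WithBot ℕ∞) ≤ ringKrullDim A := by
  obtain ⟨q, hq, hqc⟩ := Ideal.exists_comap_eq_of_mem_minimalPrimes_of_injective
    (f := φ.toRingHom) hφ ⊥ (by rw [IsDomain.minimalPrimes_eq_singleton_bot]; rfl)
  let ψ : MvPolynomial (Fin m) K →ₐ[K] A ⧸ q := (Ideal.Quotient.mkₐ K q).comp φ
  have hψ : Function.Injective ψ := by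
    rw [injective_iff_map_eq_zero]
    intro x hx
    have : x ∈ q.comap φ.toRingHom := (Ideal.Quotient.eq_zero_iff_mem (I := q)).1 (show Ideal.Quotient.mk q (φ x) = 0 from hx)
    rwa [hqc] at this
  have h1 := trdeg_le_of_injective ψ hψ
  rw [VarDim.trdeg_mvPolynomial, VarDim.trdeg_eq_tdeg] at h1
  have h2 : ringKrullDim (A ⧸ q) ≤ ringKrullDim A :=
    ringKrullDim_le_of_surjective _ Ideal.Quotient.mk_surjective
  rw [VarDim.ringKrullDim_eq_tdeg K] at h2
  have h1' : m ≤ VarDim.tdeg K (A ⧸ q) := by exact_mod_cast h1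
  exact le_trans (by exact_mod_cast h1') h2

variable {V : Type u} [CommRing V] [IsDomain V] [IsDiscreteValuationRing V]
  {R : Type u} [CommRing R] [Algebra V R] [Module.Flat V R] [Algebra.FiniteType V R]

/-- The dimension of the closed fibre is at most that of the generic fibre. -/
theorem ringKrullDim_closedFibre_le {d : ℕ} (hη : ringKrullDim (FractionRing V ⊗[V] R) ≤ d) :
    ringKrullDim (IsLocalRing.ResidueField V ⊗[V] R) ≤ d := by
  classical
  let K := FractionRing V
  let k := IsLocalRing.ResidueField V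
  rcases subsingleton_or_nontrivial (k ⊗[V] R) with hT | hT
  · rw [ringKrullDim_eq_bot_of_subsingleton]; exact bot_le
  obtain ⟨s, g, hg, hgi⟩ := exists_integral_inj_algHom_of_fg k (k ⊗[V] R)
  let := g.toRingHom.toAlgebra
  have : Algebra.IsIntegral (MvPolynomial (Fin s) k) (k ⊗[V] R) := ⟨hgi⟩
  rw [VarDim.ringKrullDim_eq_of_isIntegral (R := MvPolynomial (Fin s) k) hg,
    VarDim.ringKrullDim_mvPolynomial]
  suffices s ≤ d by exact_mod_cast this
  by_contra! hsd
  have hsd : d + 1 ≤ s := hsd
  have hsurj : Function.Surjective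
      (Algebra.TensorProduct.includeRight : R →ₐ[V] k ⊗[V] R) := by
    intro t
    induction t using TensorProduct.induction_on with
    | zero => exact ⟨0, map_zero _⟩
    | add a b ha hb =>
      obtain ⟨a, rfl⟩ := ha
      obtain ⟨b, rfl⟩ := hb
      exact ⟨a + b, map_add _ _ _⟩
    | tmul c x =>
      obtain ⟨v, rfl⟩ := IsLocalRing.residue_surjective c
      refine ⟨v • x, ?_⟩
      show (1 : k) ⊗ₜ[V] (v • x) = _
      rw [← smul_tmul, Algebra.smul_def, mul_one]
      rfl
  choose r hr using fun i : Fin (d + 1) => hsurj (g (MvPolynomial.X (Fin.castLE hsd i)))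
  let φk : MvPolynomial (Fin (d + 1)) k →ₐ[k] k ⊗[V] R :=
    MvPolynomial.aeval fun i => (1 : k) ⊗ₜ[V] r i
  have hφk : Function.Injective φk := by
    have : φk = g.comp (MvPolynomial.rename (Fin.castLE hsd)) := by
      apply MvPolynomial.algHom_ext
      intro i
      simp only [φk, MvPolynomial.aeval_X, AlgHom.comp_apply, MvPolynomial.rename_X]
      exact hr i
    rw [this]
    exact hg.comp (MvPolynomial.rename_injective _ (Fin.castLE_injective hsd))
  let φK : MvPolynomial (Fin (d + 1)) K →ₐ[K] K ⊗[V] R :=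
    MvPolynomial.aeval fun i => (1 : K) ⊗ₜ[V] r i
  have hnot : ¬ Function.Injective φK := fun h => by
    have := (le_ringKrullDim_of_injective φK h).trans hη
    have : d + 1 ≤ d := by exact_mod_cast this
    omega
  rw [injective_iff_map_eq_zero] at hnot
  push Not at hnot
  obtain ⟨F, hF, hF0⟩ := hnot
  obtain ⟨b, hb⟩ := IsLocalization.exist_integer_multiples (nonZeroDivisors V) F.support
    (fun m => F.coeff m)
  choose! v hv using hb
  let G : MvPolynomial (Fin (d + 1)) V := ∑ m ∈ F.support, MvPolynomial.monomial m (v m)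
  have hG : MvPolynomial.map (algebraMap V K) G = (b : V) • F := by
    conv_rhs => rw [F.as_sum, Finset.smul_sum]
    rw [map_sum]
    refine Finset.sum_congr rfl fun m hm => ?_
    rw [MvPolynomial.map_monomial, MvPolynomial.smul_monomial, hv m hm]
  have hb0 : algebraMap V K (b : V) ≠ 0 :=
    IsFractionRing.to_map_ne_zero_of_mem_nonZeroDivisors b.2
  have hG0 : G ≠ 0 := by
    intro h
    rw [h, map_zero, ← algebraMap_smul K (b : V) F, eq_comm, smul_eq_zero] at hG
    exact hG.elim hb0 hF0
  have hincl : Function.Injective (Algebra.TensorProduct.includeRight : R →ₐ[V] K ⊗[V] R) :=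
    Algebra.TensorProduct.includeRight_injective (IsFractionRing.injective V K)
  have hGr : MvPolynomial.aeval r G = 0 := by
    apply hincl
    rw [map_zero, MvPolynomial.comp_aeval_apply, ← MvPolynomial.aeval_map_algebraMap K]
    show φK _ = 0
    rw [hG, ← algebraMap_smul K (b : V) F, map_smul, hF, smul_zero]
  obtain ⟨ϖ, hϖ⟩ := IsDiscreteValuationRing.exists_irreducible V
  have hCϖ : Prime (MvPolynomial.C ϖ : MvPolynomial (Fin (d + 1)) V) :=
    (MvPolynomial.prime_C_iff _).2 hϖ.prime
  obtain ⟨j, G', hG', hGe⟩ := WfDvdMonoid.max_power_factor hG0 hCϖ.irreducible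
  have hG'r : MvPolynomial.aeval r G' = 0 := by
    apply hincl
    rw [map_zero]
    have h := congrArg (Algebra.TensorProduct.includeRight : R →ₐ[V] K ⊗[V] R) hGr
    rw [hGe, map_mul, map_pow, MvPolynomial.aeval_C, map_zero, map_mul, map_pow, AlgHom.commutes] at h
    refine IsUnit.mul_right_eq_zero (IsUnit.pow j ?_) |>.1 h
    rw [IsScalarTower.algebraMap_apply V K (K ⊗[V] R)]
    exact (IsUnit.mk0 _ ((map_ne_zero_iff _ (IsFractionRing.injective V K)).2 hϖ.ne_zero)).map _
  have hmap : MvPolynomial.map (algebraMap V k) G' = 0 := by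
    apply hφk
    rw [map_zero]
    show MvPolynomial.aeval _ _ = 0
    rw [MvPolynomial.aeval_map_algebraMap]
    have h := congrArg (Algebra.TensorProduct.includeRight : R →ₐ[V] k ⊗[V] R) hG'r
    rw [MvPolynomial.comp_aeval_apply, map_zero] at h
    exact h
  apply hG'
  rw [MvPolynomial.C_dvd_iff_dvd_coeff]
  intro m
  have h := congrArg (MvPolynomial.coeff m) hmap
  rw [MvPolynomial.coeff_map, MvPolynomial.coeff_zero] at h
  have hmem : G'.coeff m ∈ IsLocalRing.maximalIdeal V :=
    Ideal.Quotient.eq_zero_iff_mem.1 h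
  rw [hϖ.maximalIdeal_eq] at hmem
  exact Ideal.mem_span_singleton.1 hmem

end Groth.Agent.EtaEtale
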